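import Cfsg.Agent.Base

/-! Finite data for the isomorphism `PSU_4(2) ≅ PSp_4(3)`. -/

set_option autoImplicit false

namespace CL.SmallIso.U42

/-- model of the field with four elements: `0, 1, ω, ω²` -/
inductive F4 : Type
  | z | o | w | v
  deriving DecidableEq

/-- model of the field with three elements -/
inductive F3 : Type
  | z | o | t
  deriving DecidableEq

def F4.add : F4 → F4 → F4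
  | .z, b => b
  | a, .z => a
  | .o, .o => .z | .o, .w => .v | .o, .v => .w
  | .w, .o => .v | .w, .w => .z | .w, .v => .o
  | .v, .o => .w | .v, .w => .o | .v, .v => .z

def F4.mul : F4 → F4 → F4
  | .z, _ => .z
  | .o, b => b
  | .w, .z => .z | .w, .o => .w | .w, .w => .v | .w, .v => .o
  | .v, .z => .z | .v, .o => .v | .v, .w => .o | .v, .v => .w

def F3.add : F3 → F3 → F3
  | .z, b => b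
  | .o, .z => .o | .o, .o => .t | .o, .t => .z
  | .t, .z => .t | .t, .o => .z | .t, .t => .o

def F3.mul : F3 → F3 → F3
  | .z, _ => .z
  | .o, b => b
  | .t, .z => .z | .t, .o => .t | .t, .t => .o

structure V4 (α : Type) : Type where
  a : α
  b : α
  c : α
  d : α
  deriving DecidableEq

def smul4 (l : F4) (x : V4 F4) : V4 F4 := ⟨l.mul x.a, l.mul x.b, l.mul x.c, l.mul x.d⟩
def add4 (y x : V4 F4) : V4 F4 := ⟨y.a.add x.a, y.b.add x.b, y.c.add x.c, y.d.add x.d⟩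
def herm4 (x u : V4 F4) : F4 :=
  (((x.a.mul (u.a.mul u.a)).add (x.b.mul (u.b.mul u.b))).add (x.c.mul (u.c.mul u.c))).add
    (x.d.mul (u.d.mul u.d))
def refl4 (u x : V4 F4) : V4 F4 := add4 x (smul4 (F4.mul .v (herm4 x u)) u)

def smul3 (l : F3) (x : V4 F3) : V4 F3 := ⟨l.mul x.a, l.mul x.b, l.mul x.c, l.mul x.d⟩
def add3 (y x : V4 F3) : V4 F3 := ⟨y.a.add x.a, y.b.add x.b, y.c.add x.c, y.d.add x.d⟩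
def symp3 (x u : V4 F3) : F3 :=
  (((x.c.mul u.a).add (x.d.mul u.b)).add (F3.mul .t (x.a.mul u.c))).add (F3.mul .t (x.b.mul u.d))
def tv3 (u x : V4 F3) : V4 F3 := add3 x (smul3 (symp3 x u) u)

/-- the correspondence between the 40 non-isotropic unitary points and the 40 symplectic points -/
def L : List (V4 F4 × V4 F3) := [
  (⟨.z, .z, .z, .o⟩, ⟨.z, .z, .z, .o⟩), (⟨.z, .z, .o, .z⟩, ⟨.z, .z, .o, .z⟩),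
  (⟨.z, .o, .z, .z⟩, ⟨.z, .z, .o, .o⟩), (⟨.o, .z, .z, .z⟩, ⟨.z, .z, .o, .t⟩),
  (⟨.o, .o, .z, .o⟩, ⟨.z, .o, .z, .z⟩), (⟨.o, .o, .z, .v⟩, ⟨.z, .o, .z, .o⟩),
  (⟨.o, .o, .z, .w⟩, ⟨.z, .o, .z, .t⟩), (⟨.o, .v, .z, .w⟩, ⟨.z, .o, .o, .z⟩),
  (⟨.o, .v, .z, .o⟩, ⟨.z, .o, .o, .o⟩), (⟨.o, .v, .z, .v⟩, ⟨.z, .o, .o, .t⟩),
  (⟨.o, .w, .z, .v⟩, ⟨.z, .o, .t, .z⟩), (⟨.o, .w, .z, .w⟩, ⟨.z, .o, .t, .o⟩),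
  (⟨.o, .w, .z, .o⟩, ⟨.z, .o, .t, .t⟩), (⟨.o, .o, .o, .z⟩, ⟨.o, .z, .z, .z⟩),
  (⟨.o, .v, .w, .z⟩, ⟨.o, .z, .z, .o⟩), (⟨.o, .w, .v, .z⟩, ⟨.o, .z, .z, .t⟩),
  (⟨.o, .o, .v, .z⟩, ⟨.o, .z, .o, .z⟩), (⟨.o, .v, .o, .z⟩, ⟨.o, .z, .o, .o⟩),
  (⟨.o, .w, .w, .z⟩, ⟨.o, .z, .o, .t⟩), (⟨.o, .o, .w, .z⟩, ⟨.o, .z, .t, .z⟩),
  (⟨.o, .v, .v, .z⟩, ⟨.o, .z, .t, .o⟩), (⟨.o, .w, .o, .z⟩, ⟨.o, .z, .t, .t⟩),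
  (⟨.z, .o, .o, .o⟩, ⟨.o, .o, .z, .z⟩), (⟨.z, .o, .o, .v⟩, ⟨.o, .o, .z, .o⟩),
  (⟨.z, .o, .o, .w⟩, ⟨.o, .o, .z, .t⟩), (⟨.z, .o, .v, .o⟩, ⟨.o, .o, .o, .z⟩),
  (⟨.z, .o, .v, .v⟩, ⟨.o, .o, .o, .o⟩), (⟨.z, .o, .v, .w⟩, ⟨.o, .o, .o, .t⟩),
  (⟨.z, .o, .w, .o⟩, ⟨.o, .o, .t, .z⟩), (⟨.z, .o, .w, .v⟩, ⟨.o, .o, .t, .o⟩),
  (⟨.z, .o, .w, .w⟩, ⟨.o, .o, .t, .t⟩), (⟨.o, .z, .o, .o⟩, ⟨.o, .t, .z, .z⟩),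
  (⟨.o, .z, .o, .w⟩, ⟨.o, .t, .z, .o⟩), (⟨.o, .z, .o, .v⟩, ⟨.o, .t, .z, .t⟩),
  (⟨.o, .z, .v, .o⟩, ⟨.o, .t, .o, .z⟩), (⟨.o, .z, .v, .w⟩, ⟨.o, .t, .o, .o⟩),
  (⟨.o, .z, .v, .v⟩, ⟨.o, .t, .o, .t⟩), (⟨.o, .z, .w, .o⟩, ⟨.o, .t, .t, .z⟩),
  (⟨.o, .z, .w, .w⟩, ⟨.o, .t, .t, .o⟩), (⟨.o, .z, .w, .v⟩, ⟨.o, .t, .t, .t⟩)]

theorem check_act : ∀ x ∈ L, ∀ y ∈ L, ∃ z ∈ L,
    (tv3 x.2 y.2 = z.2 ∨ tv3 x.2 y.2 = smul3 .t z.2) ∧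
    (refl4 x.1 y.1 = z.1 ∨ refl4 x.1 y.1 = smul4 .w z.1 ∨ refl4 x.1 y.1 = smul4 .v z.1) := by
  decide +kernel

theorem check_norm : ∀ x ∈ L, herm4 x.1 x.1 = .o := by decide +kernel

theorem check_inj4 : ∀ x ∈ L, ∀ y ∈ L,
    (x.1 = smul4 .z y.1 ∨ x.1 = smul4 .o y.1 ∨ x.1 = smul4 .w y.1 ∨ x.1 = smul4 .v y.1) → x = y := by
  decide +kernel

theorem check_inj3 : ∀ x ∈ L, ∀ y ∈ L,
    (x.2 = smul3 .z y.2 ∨ x.2 = smul3 .o y.2 ∨ x.2 = smul3 .t y.2) → x = y := by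
  decide +kernel

theorem check_surj3 : ∀ a ∈ [F3.z, .o, .t], ∀ b ∈ [F3.z, .o, .t], ∀ c ∈ [F3.z, .o, .t],
    ∀ d ∈ [F3.z, .o, .t], ∃ y ∈ L,
    ((⟨a, b, c, d⟩ : V4 F3) = smul3 .z y.2 ∨ (⟨a, b, c, d⟩ : V4 F3) = smul3 .o y.2 ∨
      (⟨a, b, c, d⟩ : V4 F3) = smul3 .t y.2) := by
  decide +kernel

end CL.SmallIso.U42
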