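import Cfsg.Agent.Base

/-! Compressing a matrix representation to a section of the module, as isometries of a form. -/

set_option autoImplicit false

open scoped Matrix

namespace CL.SmallIso

variable {G : Type*} [Group G] {ι κ : Type} [Fintype ι] [DecidableEq ι] [Fintype κ] [DecidableEq κ]
  {F : Type*} [Field F]

theorem mem_isometryGroup_iff (Q : (ι → F) → F) (g : Matrix.GeneralLinearGroup ι F) :
    g ∈ Cfsg.isometryGroup F Q ↔ ∀ v, Q ((g : Matrix ι ι F) *ᵥ v) = Q v := by
  constructor
  · intro h v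
    exact h v v
  · intro h u _
    exact h u

/-- A representation `ρ` on `F^κ` preserving `Q'`, a section `B : F^ι → F^κ`, `A : F^κ → F^ι`. -/
theorem exists_compress (ρ : G →* Matrix κ κ F) (A : Matrix ι κ F) (B : Matrix κ ι F)
    (Q : (ι → F) → F) (Q' : (κ → F) → F) (hAB : A * B = 1)
    (hQ : ∀ x, Q' (B *ᵥ x) = Q x) (hinv : ∀ g v, Q' (ρ g *ᵥ v) = Q' v)
    (H : ∀ g x, ∃ r, B *ᵥ (A *ᵥ (ρ g *ᵥ (B *ᵥ x))) = ρ g *ᵥ (B *ᵥ x) + r ∧
      (∀ h, A *ᵥ (ρ h *ᵥ r) = 0) ∧ Q' (ρ g *ᵥ (B *ᵥ x) + r) = Q' (ρ g *ᵥ (B *ᵥ x))) :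
    ∃ f : G →* Cfsg.isometryGroup F Q, ∀ g,
      ((f g : Matrix.GeneralLinearGroup ι F) : Matrix ι ι F) = A * ρ g * B := by
  let f0 : G →* Matrix ι ι F :=
    { toFun := fun g => A * ρ g * B
      map_one' := by simp [hAB]
      map_mul' := fun g h => by
        apply Matrix.toLin'.injective
        apply LinearMap.ext
        intro x
        obtain ⟨r, h1, h2, -⟩ := H h x
        simp only [Matrix.toLin'_apply, ← Matrix.mulVec_mulVec, map_mul]
        rw [h1, Matrix.mulVec_add, Matrix.mulVec_add, h2, add_zero] }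
  have hmem : ∀ g, f0.toHomUnits g ∈ Cfsg.isometryGroup F Q := by
    intro g
    rw [mem_isometryGroup_iff]
    intro x
    obtain ⟨r, h1, -, h3⟩ := H g x
    have : ((f0.toHomUnits g : Matrix.GeneralLinearGroup ι F) : Matrix ι ι F) = A * ρ g * B := rfl
    rw [this, ← hQ, ← Matrix.mulVec_mulVec, ← Matrix.mulVec_mulVec, h1, h3, hinv, hQ]
  exact ⟨f0.toHomUnits.codRestrict _ hmem, fun g => rfl⟩

theorem permMatrixHom_mulVec (σ : Equiv.Perm κ) (v : κ → F) :
    (Matrix.permMatrixHom (R := F) σ) *ᵥ v = fun i => v (σ⁻¹ i) := by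
  change (σ⁻¹).permMatrix F *ᵥ v = _
  rw [Matrix.permMatrix_mulVec]
  rfl

/-- The second elementary symmetric function of the coordinates. -/
noncomputable def e2 (v : κ → F) : F := ∑ s ∈ Finset.powersetCard 2 (Finset.univ : Finset κ), ∏ i ∈ s, v i

omit [DecidableEq κ] in
theorem e2_perm (σ : Equiv.Perm κ) (v : κ → F) : e2 (fun i => v (σ i)) = e2 v := by
  unfold e2
  refine Finset.sum_bij (fun s _ => s.map σ.toEmbedding) ?_ ?_ ?_ ?_
  · intro s hs
    simp only [Finset.mem_powersetCard, Finset.subset_univ, true_and, Finset.card_map] at hs ⊢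
    exact hs
  · intro s _ t _ h
    exact Finset.map_injective _ h
  · intro t ht
    refine ⟨t.map σ.symm.toEmbedding, ?_, ?_⟩
    · simp only [Finset.mem_powersetCard, Finset.subset_univ, true_and, Finset.card_map] at ht ⊢
      exact ht
    · rw [Finset.map_map]
      simp
  · intro s _
    rw [Finset.prod_map]
    rfl

theorem e2_eq [LinearOrder κ] (v : κ → F) :
    e2 v = ∑ i, ∑ j, if i < j then v i * v j else 0 := by
  rw [← Fintype.sum_prod_type', ← Finset.sum_filter]
  unfold e2
  symm
  refine Finset.sum_bij (fun p _ => ({p.1, p.2} : Finset κ)) ?_ ?_ ?_ ?_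
  · intro p hp
    simp only [Finset.mem_filter, Finset.mem_univ, true_and] at hp
    simp only [Finset.mem_powersetCard, Finset.subset_univ, true_and]
    exact Finset.card_pair hp.ne
  · intro p hp q hq h
    simp only [Finset.mem_filter, Finset.mem_univ, true_and] at hp hq
    have h1 : p.1 ∈ ({q.1, q.2} : Finset κ) := by rw [← h]; simp
    have h2 : p.2 ∈ ({q.1, q.2} : Finset κ) := by rw [← h]; simp
    have h3 : q.1 ∈ ({p.1, p.2} : Finset κ) := by rw [h]; simp
    simp only [Finset.mem_insert, Finset.mem_singleton] at h1 h2 h3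
    rcases h1 with h1 | h1 <;> rcases h2 with h2 | h2
    · exact absurd (h1.trans h2.symm) hp.ne
    · exact Prod.ext h1 h2
    · rw [h1, h2] at hp; exact absurd hq hp.asymm
    · exact absurd (h1.trans h2.symm) hp.ne
  · intro t ht
    simp only [Finset.mem_powersetCard, Finset.subset_univ, true_and] at ht
    obtain ⟨a, b, hab, rfl⟩ := Finset.card_eq_two.1 ht
    rcases lt_or_gt_of_ne hab with h | h
    · exact ⟨(a, b), by simpa using h, rfl⟩
    · exact ⟨(b, a), by simpa using h, Finset.pair_comm _ _⟩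
  · intro p hp
    simp only [Finset.mem_filter, Finset.mem_univ, true_and] at hp
    rw [Finset.prod_pair hp.ne]

/-- A field with two elements consists of `0` and `1`. -/
theorem eq_zero_or_one_of_card_two {F : Type*} [Field F] [Fintype F] (hF : Fintype.card F = 2)
    (x : F) : x = 0 ∨ x = 1 := by
  have h := FiniteField.pow_card x
  rw [hF] at h
  have : x * (x - 1) = 0 := by linear_combination h
  rcases mul_eq_zero.1 this with h | h
  · exact Or.inl h
  · exact Or.inr (sub_eq_zero.1 h)

theorem two_eq_zero_of_card_two {F : Type*} [Field F] [Fintype F] (hF : Fintype.card F = 2) :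
    (2 : F) = 0 := by
  have h := FiniteField.cast_card_eq_zero F
  rw [hF] at h
  exact_mod_cast h

theorem three_eq_zero_of_card_three {F : Type*} [Field F] [Fintype F] (hF : Fintype.card F = 3) :
    (3 : F) = 0 := by
  have h := FiniteField.cast_card_eq_zero F
  rw [hF] at h
  exact_mod_cast h

/-- A permutation that fixes every vector `e_i - e_j` up to a constant vector is trivial when there
are at least five points. -/
theorem perm_eq_one_of_pairs (hκ : 5 ≤ Fintype.card κ) (σ : Equiv.Perm κ)
    (h : ∀ i j : κ, i ≠ j → ∃ c : F, ∀ k,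
      (Pi.single i (1 : F) - Pi.single j (1 : F) : κ → F) (σ⁻¹ k) =
        (Pi.single i (1 : F) - Pi.single j (1 : F) : κ → F) k + c) : σ = 1 := by
  have key : ∀ i j : κ, i ≠ j → σ⁻¹ i = i ∨ σ⁻¹ i = j := by
    intro i j hij
    obtain ⟨c, hc⟩ := h i j hij
    have hc0 : c = 0 := by
      have : ∃ k, k ∉ ({i, j, σ i, σ j} : Finset κ) := by
        by_contra hh
        push Not at hh
        have h1 : (Finset.univ : Finset κ) ⊆ {i, j, σ i, σ j} := fun k _ => hh k
        have h2 := Finset.card_le_card h1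
        have h3 : ({i, j, σ i, σ j} : Finset κ).card ≤ 4 := Finset.card_le_four
        rw [Finset.card_univ] at h2
        omega
      obtain ⟨k, hk⟩ := this
      simp only [Finset.mem_insert, Finset.mem_singleton, not_or] at hk
      obtain ⟨h1, h2, h3, h4⟩ := hk
      have h5 : σ⁻¹ k ≠ i := fun e => h3 (by rw [← e]; simp)
      have h6 : σ⁻¹ k ≠ j := fun e => h4 (by rw [← e]; simp)
      have := hc k
      simp only [Pi.sub_apply, Pi.single_apply, h1, h2, h5, h6, if_false, sub_zero, zero_add] at this
      exact this.symm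
    have := hc i
    by_contra hh
    push Not at hh
    simp only [Pi.sub_apply, Pi.single_apply, hh.1, hh.2, hij, hc0, if_false, if_true, sub_zero,
      add_zero] at this
    exact zero_ne_one this
  have : ∀ i, σ⁻¹ i = i := by
    intro i
    by_contra hi
    have : ∃ k, k ∉ ({i, σ⁻¹ i} : Finset κ) := by
      by_contra hh
      push Not at hh
      have h1 : (Finset.univ : Finset κ) ⊆ {i, σ⁻¹ i} := fun k _ => hh k
      have h2 := Finset.card_le_card h1
      have h3 : ({i, σ⁻¹ i} : Finset κ).card ≤ 2 := Finset.card_le_two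
      rw [Finset.card_univ] at h2
      omega
    obtain ⟨k, hk⟩ := this
    simp only [Finset.mem_insert, Finset.mem_singleton, not_or] at hk
    rcases key i k (Ne.symm hk.1) with h | h
    · exact hi h
    · exact hk.2 h.symm
  have h1 : σ⁻¹ = 1 := Equiv.ext this
  simpa using h1

end CL.SmallIso
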